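import Groth.Agent.ZeroConn12.Tower
import Groth.Agent.Lib.NegVanAmple
import Groth.Agent.Lib.AsympCoh
import Groth.Agent.Lib.LerayCorner
import Groth.Agent.Pic13Lib.SectDivisor
import Groth.Agent.QCoh.HHExact
import Groth.Agent.QCoh.Extension
import Groth.Agent.QCoh.DevissageP
import Groth.Agent.QCoh.OpenSub
import Groth.Agent.AssLib.Apply
import Groth.Agent.Hensel.DepthFlat

/-!
# Zero schemes of ample regular sections are connected
-/

set_option autoImplicit false
set_option linter.style.haveILetI false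
set_option backward.isDefEq.respectTransparency false
set_option backward.isDefEq.respectTransparency.types false

universe u

open CategoryTheory CategoryTheory.Limits AlgebraicGeometry TopologicalSpace Opposite

namespace Groth.Agent.ZeroConn12

variable {X : Scheme.{u}}

/-- The non-vanishing locus of an integral global function is closed. -/
theorem isClosed_basicOpen_of_isIntegralElem {k : Type u} [Field k] (ι : k →+* Γ(X, ⊤)) (a : Γ(X, ⊤))
    (ha : ι.IsIntegralElem a) : IsClosed (X.basicOpen a : Set X) := by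
  obtain ⟨p, hp, hpa⟩ := ha
  obtain ⟨q, hpq, hq⟩ := Polynomial.exists_eq_pow_rootMultiplicity_mul_and_not_dvd p hp.ne_zero 0
  rw [map_zero, sub_zero] at hpq hq
  have hq0 : q.coeff 0 ≠ 0 := fun h => hq (Polynomial.X_dvd_iff.2 h)
  have h0 : a ^ p.rootMultiplicity 0 * q.eval₂ ι a = 0 := by
    rw [hpq, Polynomial.eval₂_mul, Polynomial.eval₂_pow, Polynomial.eval₂_X] at hpa
    exact hpa
  rw [← isOpen_compl_iff]
  suffices h : (X.basicOpen a : Set X)ᶜ = (X.basicOpen (q.eval₂ ι a) : Set X) by
    rw [h]; exact (X.basicOpen _).isOpen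
  ext x
  simp only [Set.mem_compl_iff, SetLike.mem_coe, X.mem_basicOpen _ x (show x ∈ (⊤ : X.Opens) from trivial)]
  have hev : X.presheaf.germ ⊤ x trivial (q.eval₂ ι a) =
      q.eval₂ ((X.presheaf.germ ⊤ x trivial).hom.comp ι) (X.presheaf.germ ⊤ x trivial a) :=
    Polynomial.hom_eval₂ q ι (X.presheaf.germ ⊤ x trivial).hom a
  constructor
  · intro hna
    by_contra hnq
    have hm : ∀ z : X.presheaf.stalk x, ¬ IsUnit z → IsLocalRing.residue _ z = 0 := fun z hz =>
      (IsLocalRing.residue_eq_zero_iff z).2 ((IsLocalRing.mem_maximalIdeal z).2 hz)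
    have e := congrArg (IsLocalRing.residue (X.presheaf.stalk x)) hev
    rw [hm _ hnq, Polynomial.hom_eval₂, hm _ hna, Polynomial.eval₂_at_zero] at e
    exact hq0 ((map_eq_zero _).1 e.symm)
  · intro hu hua
    have h := congrArg (X.presheaf.germ ⊤ x trivial) h0
    rw [map_mul, map_pow, map_zero] at h
    exact ((hua.pow _).mul hu).ne_zero h

theorem isEmpty_of_subsingleton_top (h : Subsingleton Γ(X, ⊤)) : IsEmpty X :=
  ⟨fun x => haveI := h; not_isUnit_zero (M₀ := X.presheaf.stalk x) (by
    rw [← map_zero (X.presheaf.germ ⊤ x trivial).hom, Subsingleton.elim (0 : Γ(X, ⊤)) 1, map_one]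
    exact isUnit_one)⟩

theorem connectedSpace_zeroScheme {k : Type u} [Field k] (f : X ⟶ Spec (CommRingCat.of k)) [IsProper f]
    [ConnectedSpace X] {L : X.Modules} (hL : CohB1.IsAmple L) (s : Coh.structureModule X ⟶ L) [Mono s]
    (hdepth : ∀ x : X, IsClosed ({x} : Set X) → 2 ≤ LocCoh.depth (X.presheaf.stalk x) (X.presheaf.stalk x)) :
    ConnectedSpace (PicF2.zeroScheme L s).subscheme := by
  classical
  haveI : IsLocallyNoetherian X := LocallyOfFiniteType.isLocallyNoetherian f
  let K := PicF2.zeroScheme L s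
  let M := ClSub.idealMod K
  have hLM : ClSub.IsInverseOf L M := Pic13Lib.nonempty_idealMod_zeroScheme hL.1 s
  have hM : PicF.IsInvertible M := AsympCoh.isInvertible_inverse hL.1 hLM
  have hO : Coh.IsCoh (Coh.structureModule X) := QCoh.isCoh_structureModule'
  have hdep : ∀ x : X, IsClosed ({x} : Set X) →
      ((2 : ℕ) : ℕ∞) ≤ LocCoh.depth (X.presheaf.stalk x) ((Coh.structureModule X).presheaf.stalk x) := fun x hx => by
    refine le_trans (le_of_eq (by norm_num)) ((hdepth x hx).trans (le_of_eq ?_))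
    exact Hensel.depth_congr (KFlatLib.stalkUnitEquiv x)
  have hunit : ∀ P : X.Modules, Nonempty (CohB1.tensorMod (Coh.structureModule X) P ≅ P) := fun P => by
    obtain ⟨c⟩ := H23.PicMul.comm (Coh.structureModule X) P
    obtain ⟨w⟩ := H23.PicMul.unit P
    exact ⟨c ≪≫ w⟩
  obtain ⟨n₁, hn₁⟩ := NegVanAmple.exists_vanishing f hL hLM hO 2 hdep 1 (by norm_num)
  obtain ⟨n₀, hn₀⟩ := NegVanAmple.exists_vanishing f hL hLM hO 2 hdep 0 (by norm_num)
  have hH : ∀ {j m : ℕ}, Subsingleton (Coh.HH X (CohB1.tensorMod (Coh.structureModule X) (CohB1.tensorPow M m)) j) →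
      Subsingleton (Coh.HH X (CohB1.tensorPow M m) j) := fun {j m} h =>
    QCoh.subsingleton_HH_of_iso (hunit _).some j h
  let n := n₀ + n₁
  obtain ⟨φ, hmono, hsurj, hsupp⟩ := exists_tower K hM n
  haveI := hmono
  let Q := cokernel φ
  let π : Coh.structureModule X ⟶ Q := cokernel.π φ
  have hS : (ShortComplex.mk φ π (cokernel.condition φ)).ShortExact :=
    { exact := ShortComplex.exact_of_g_is_cokernel _ (cokernelIsCokernel _) }
  let one : ∀ U : X.Opens, Γ(Coh.structureModule X, U) := fun U => OmegaSh.strSect X U 1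
  have hone : ∀ (U V : X.Opens) (h : V ≤ U), (Coh.structureModule X).presheaf.map (homOfLE h).op (one U) = one V :=
    fun U V h => map_one (X.presheaf.map (homOfLE h).op).hom
  -- off the zero scheme the cokernel kills `1`
  have hπ1 : ∀ U : X.Opens, (∀ x ∈ U, x ∉ K.support) → π.app U (one U) = 0 := fun U hU =>
    QCoh.eq_zero_of_locally U _ fun x hx => by
      obtain ⟨z, hz⟩ := hsurj x (hU x hx) ((Coh.structureModule X).presheaf.germ U x hx (one U))
      obtain ⟨V, hxV, a, rfl⟩ := TopCat.Presheaf.germ_exist (CohB1.tensorPow (ClSub.idealMod K) (n + 1)).presheaf z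
      rw [stk_germ] at hz
      obtain ⟨W, hxW, i, j, hij⟩ := (Coh.structureModule X).presheaf.germ_eq x hxV hx _ _ hz
      refine ⟨W, j, hxW, ?_⟩
      refine (QCoh.map_app_comm π j (one U)).symm.trans ((congrArg (π.app W) hij.symm).trans ?_)
      rw [← QCoh.map_app_comm φ i a]
      exact congr($(congrArg (fun ψ : CohB1.tensorPow (ClSub.idealMod K) (n + 1) ⟶ cokernel φ => ψ.app W) (cokernel.condition φ)) _)
  rw [connectedSpace_iff_univ]
  suffices h : _root_.IsConnected (K.support : Set X) by
    have e : Set.range K.subschemeι = K.support := K.range_subschemeι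
    rw [← e, ← Set.image_univ] at h
    exact ⟨Set.image_nonempty.1 h.1, K.subschemeι.isClosedEmbedding.isInducing.isPreconnected_image.1 h.2⟩
  refine ⟨?_, isPreconnected_closed_iff.2 fun t t' ht ht' hsub hA hB => ?_⟩
  · -- the zero scheme is not empty
    by_contra hempty
    rw [Set.not_nonempty_iff_eq_empty] at hempty
    have hbij : Function.Bijective (φ.app ⊤) := by
      refine ⟨QCoh.app_injective φ ⊤, fun x => QCoh.exists_app_f_eq hS ⊤ x ?_⟩
      have h1 := hπ1 ⊤ fun y _ hy => (hempty.le hy).elim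
      have : x = (show Γ(X, ⊤) from x) • one ⊤ := (mul_one (show Γ(X, ⊤) from x)).symm
      rw [this]
      exact (Scheme.Modules.Hom.app_smul π _ _).trans ((congrArg _ h1).trans (smul_zero _))
    have hz : Subsingleton Γ(CohB1.tensorPow M (n + 1), ⊤) :=
      (LerayCorner.subsingleton_HH_zero_iff _).1 (hH (hn₀ (n + 1) (by omega)))
    have hX : Subsingleton Γ(X, ⊤) := (Equiv.ofBijective _ hbij).symm.subsingleton
    exact (isEmpty_of_subsingleton_top hX).false (Classical.arbitrary X)
  · -- connectedness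
    by_contra hdis
    rw [Set.not_nonempty_iff_eq_empty] at hdis
    let UA : X.Opens := ⟨((K.support : Set X) ∩ t')ᶜ, (K.support.isClosed.inter ht').isOpen_compl⟩
    let UB : X.Opens := ⟨((K.support : Set X) ∩ t)ᶜ, (K.support.isClosed.inter ht).isOpen_compl⟩
    have hd : ∀ x ∈ (K.support : Set X), x ∈ t → x ∈ t' → False := fun x hx h h' =>
      (hdis.le ⟨hx, h, h'⟩).elim
    have hov : ∀ x ∈ UA ⊓ UB, x ∉ K.support := fun x hx hxK => by
      rcases hsub hxK with h | h
      · exact hx.2 ⟨hxK, h⟩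
      · exact hx.1 ⟨hxK, h⟩
    -- glue `1` near the first part and `0` near the second
    let W : ULift.{u} Bool → X.Opens := fun b => if b.down then UA else UB
    let sf : ∀ b, Γ(Q, W b) := fun b => if b.down then π.app (W b) (one (W b)) else 0
    obtain ⟨q, hq, -⟩ := AModX.existsUnique_glue (M := Q) (V := ⊤) W (fun _ => le_top) (fun x _ => by
      by_cases hxB : x ∈ (K.support : Set X) ∩ t'
      · exact ⟨⟨false⟩, fun h => hd x hxB.1 h.2 hxB.2⟩
      · exact ⟨⟨true⟩, hxB⟩) sf (by
      have h10 : ∀ {O : X.Opens} (h : O ≤ UA), (∀ x ∈ O, x ∉ K.support) →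
          AModX.res Q h (π.app UA (one UA)) = 0 := fun {O} h hO =>
        ((QCoh.map_app_comm π (homOfLE h) (one UA)).symm.trans (congrArg (π.app O) (hone UA O h))).trans (hπ1 O hO)
      rintro ⟨_ | _⟩ ⟨_ | _⟩
      · rfl
      · exact ((map_zero _)).trans (h10 inf_le_right fun x hx => hov x ⟨hx.2, hx.1⟩).symm
      · exact (h10 inf_le_left fun x hx => hov x hx).trans (map_zero _).symm
      · rfl)
    have hsurjT : Function.Surjective (π.app ⊤) :=
      QCoh.app_top_surjective_of_HH_one hS (hH (hn₁ (n + 1) (by omega)))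
    obtain ⟨g, hg⟩ := hsurjT q
    -- values of the lift
    have hgA : AModX.res Q (le_top : UA ≤ ⊤) (π.app ⊤ g) = π.app UA (one UA) := by
      rw [hg]; exact hq ⟨true⟩
    have hgB : AModX.res Q (le_top : UB ≤ ⊤) (π.app ⊤ g) = 0 := by
      rw [hg]; exact hq ⟨false⟩
    have himg : ∀ (U : X.Opens) (x : X) (hxU : x ∈ U), x ∈ K.support → ∀ c : Γ(Coh.structureModule X, U),
        π.app U c = 0 → x ∉ X.basicOpen (OmegaSh.fnSect X U c) := fun U x hxU hxK c hc => by
      obtain ⟨a, ha⟩ := QCoh.exists_app_f_eq hS U c hc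
      exact hsupp x hxK U hxU c ⟨_, (stk_germ φ hxU a).trans (congrArg _ ha)⟩
    let G : Γ(X, ⊤) := OmegaSh.fnSect X ⊤ g
    have hB' : ∀ x ∈ (K.support : Set X), x ∈ t' → x ∉ X.basicOpen G := fun x hx hxt h => by
      have hxU : x ∈ UB := fun h' => hd x hx h'.2 hxt
      have e := himg UB x hxU hx (AModX.res (Coh.structureModule X) le_top g)
        ((QCoh.map_app_comm π (homOfLE le_top) g).trans hgB)
      apply e
      show x ∈ X.basicOpen (X.presheaf.map (homOfLE (le_top : UB ≤ ⊤)).op G)
      rw [Scheme.basicOpen_res]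
      exact ⟨hxU, h⟩
    have hA' : ∀ x ∈ (K.support : Set X), x ∈ t → x ∈ X.basicOpen G := fun x hx hxt => by
      have hxU : x ∈ UA := fun h' => hd x hx hxt h'.2
      have e := himg UA x hxU hx (AModX.res (Coh.structureModule X) le_top g - one UA) (by
        rw [map_sub, sub_eq_zero]
        exact (QCoh.map_app_comm π (homOfLE le_top) g).trans hgA)
      by_contra hnot
      apply e
      rw [X.mem_basicOpen _ x hxU]
      show IsUnit (X.presheaf.germ UA x hxU (X.presheaf.map (homOfLE (le_top : UA ≤ ⊤)).op G - 1))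
      rw [map_sub, map_one, X.presheaf.germ_res_apply]
      rw [X.mem_basicOpen _ x (show x ∈ (⊤ : X.Opens) from trivial)] at hnot
      have := (IsLocalRing.isUnit_one_sub_self_of_mem_nonunits _ hnot).neg
      rwa [neg_sub] at this
    have hclopen : IsClopen (X.basicOpen G : Set X) := by
      refine ⟨isClosed_basicOpen_of_isIntegralElem ((f.appTop).hom.comp (Scheme.ΓSpecIso (CommRingCat.of k)).inv.hom) G ?_,
        (X.basicOpen G).isOpen⟩
      refine RingHom.IsIntegral.trans _ _ ?_ (isIntegral_appTop_of_universallyClosed f) G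
      exact RingHom.isIntegral_of_surjective _ (Scheme.ΓSpecIso (CommRingCat.of k)).symm.commRingCatIsoToRingEquiv.surjective
    rcases isClopen_iff.1 hclopen with he | hu
    · obtain ⟨x, hx, hxt⟩ := hA
      exact (he.le (hA' x hx hxt)).elim
    · obtain ⟨x, hx, hxt⟩ := hB
      exact hB' x hx hxt (hu.ge trivial)

end Groth.Agent.ZeroConn12
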