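import Groth.Agent.H23.K0TensorInv
import Groth.Agent.H23.InvStalk
import Groth.Agent.H23.PicMul
import Groth.Agent.OmegaLib.IdealMod
import Groth.Agent.QCoh.Sections
import Groth.Agent.AModX.Res

/-!
# Maps from powers of an ideal to the structure sheaf
-/

set_option autoImplicit false
set_option linter.style.haveILetI false
set_option backward.isDefEq.respectTransparency false
set_option backward.isDefEq.respectTransparency.types false

universe u

open CategoryTheory CategoryTheory.Limits AlgebraicGeometry TopologicalSpace Opposite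
open Groth.Agent.H23

namespace Groth.Agent.ZeroConn12

variable {X : Scheme.{u}}

theorem stk_germ {M N : X.Modules} (φ : M ⟶ N) {U : X.Opens} {x : X} (hx : x ∈ U) (a : Γ(M, U)) :
    LocFinCoprod.stk φ x (M.presheaf.germ U x hx a) = N.presheaf.germ U x hx (φ.app U a) :=
  TopCat.Presheaf.stalkFunctor_map_germ_apply U x hx φ.mapPresheaf a

theorem stk_comp {L M N : X.Modules} (φ : L ⟶ M) (ψ : M ⟶ N) (x : X) (z : L.presheaf.stalk x) :
    LocFinCoprod.stk (φ ≫ ψ) x z = LocFinCoprod.stk ψ x (LocFinCoprod.stk φ x z) :=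
  congr($((DerSch.stalkFunctor X x).map_comp φ ψ) z)

theorem stk_id (M : X.Modules) (x : X) (z : M.presheaf.stalk x) : LocFinCoprod.stk (𝟙 M) x z = z :=
  congr($((DerSch.stalkFunctor X x).map_id M) z)

theorem stk_bijective_of_iso {M N : X.Modules} (e : M ≅ N) (x : X) :
    Function.Bijective (LocFinCoprod.stk e.hom x) := by
  refine Function.bijective_iff_has_inverse.2 ⟨LocFinCoprod.stk e.inv x, fun z => ?_, fun z => ?_⟩
  · rw [← stk_comp, e.hom_inv_id, stk_id]
  · rw [← stk_comp, e.inv_hom_id, stk_id]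

theorem stk_injective_of_mono {M N : X.Modules} (φ : M ⟶ N) [Mono φ] (x : X) :
    Function.Injective (LocFinCoprod.stk φ x) := by
  intro a b h
  obtain ⟨U, hxU, a₀, rfl⟩ := TopCat.Presheaf.germ_exist M.presheaf a
  obtain ⟨V, hxV, b₀, rfl⟩ := TopCat.Presheaf.germ_exist M.presheaf b
  rw [stk_germ, stk_germ] at h
  obtain ⟨W, hxW, i, j, hij⟩ := N.presheaf.germ_eq x hxU hxV _ _ h
  rw [← M.presheaf.germ_res_apply i x hxW, ← M.presheaf.germ_res_apply j x hxW]
  have hinj : Function.Injective (φ.app W) := QCoh.app_injective φ W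
  exact congrArg _ (hinj ((QCoh.map_app_comm φ i a₀).trans (hij.trans (QCoh.map_app_comm φ j b₀).symm)))

theorem mono_of_stk_injective {M N : X.Modules} (φ : M ⟶ N) (h : ∀ x, Function.Injective (LocFinCoprod.stk φ x)) :
    Mono φ :=
  QCoh.mono_of_app_injective φ fun U => (injective_iff_map_eq_zero (φ.app U).hom).2 fun a ha =>
    TopCat.Presheaf.section_ext ⟨M.presheaf, M.isSheaf⟩ U a 0 fun x hx => h x (by
      refine (stk_germ φ hx a).trans ?_
      rw [show φ.app U a = 0 from ha, map_zero]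
      exact ((congrArg (LocFinCoprod.stk φ x) (map_zero _)).trans (map_zero _)).symm)

theorem exists_isGen {L : X.Modules} (hL : PicF.IsInvertible L) (x : X) :
    ∃ t : L.presheaf.stalk x, RatSec.IsGen t := by
  obtain ⟨e⟩ := InvStalk.exists_stalk_equiv hL x
  refine ⟨e.symm 1, ?_, fun a ha => ?_⟩
  · refine eq_top_iff.2 fun z _ => Submodule.mem_span_singleton.2 ⟨e z, ?_⟩
    refine e.injective ?_
    exact (e.map_smul _ _).trans (by rw [e.apply_symm_apply, smul_eq_mul, mul_one])
  · have h := congrArg e ha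
    have h' : a • e (e.symm (1 : X.presheaf.stalk x)) = 0 := (e.map_smul a _).symm.trans (h.trans (map_zero e))
    rwa [e.apply_symm_apply, smul_eq_mul, mul_one] at h'

theorem nonempty_leftUnit (M : X.Modules) :
    Nonempty ((K0TensorInv.ten M).obj (Coh.structureModule X) ≅ M) := by
  obtain ⟨c⟩ := PicMul.comm (Coh.structureModule X) M
  obtain ⟨w⟩ := PicMul.unit M
  exact ⟨c ≪≫ w⟩

variable (K : X.IdealSheafData)

/-- A map to the structure sheaf with image inside the ideal, and everything off its support. -/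
def Good {P : X.Modules} (φ : P ⟶ Coh.structureModule X) : Prop :=
  Mono φ ∧ (∀ x, x ∉ K.support → Function.Surjective (LocFinCoprod.stk φ x)) ∧
    ∀ x, x ∈ K.support → ∀ (U : X.Opens) (hx : x ∈ U) (g : Γ(Coh.structureModule X, U)),
      (Coh.structureModule X).presheaf.germ U x hx g ∈ Set.range (LocFinCoprod.stk φ x) →
        x ∉ X.basicOpen (OmegaSh.fnSect X U g)

theorem stk_idealModι_surjective {x : X} (hx : x ∉ K.support) :
    Function.Surjective (LocFinCoprod.stk (ClSub.idealModι K) x) := by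
  obtain ⟨W, hW, hxW, -⟩ := exists_isAffineOpen_mem_and_subset (show x ∈ (⊤ : X.Opens) from trivial)
  have h : x ∉ X.zeroLocus (U := W) (K.ideal ⟨W, hW⟩) := fun h => hx ((K.mem_support_iff_of_mem (U := ⟨W, hW⟩) hxW).2 h)
  rw [Scheme.mem_zeroLocus_iff] at h
  push Not at h
  obtain ⟨a, ha, hxa⟩ := h
  obtain ⟨k, hk⟩ := OmegaLib.exists_of_mem K ⟨W, hW⟩ a ha
  intro z
  obtain ⟨U, hxU, g, rfl⟩ := TopCat.Presheaf.germ_exist (Coh.structureModule X).presheaf z
  have h1 : U ⊓ X.basicOpen a ≤ W := inf_le_right.trans (X.basicOpen_le a)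
  obtain ⟨v, hv⟩ := (RingedSpace.isUnit_res_basicOpen _ a).map
    (X.presheaf.map (homOfLE (inf_le_right : U ⊓ X.basicOpen a ≤ X.basicOpen a)).op).hom
  have hv' : (v : Γ(X, U ⊓ X.basicOpen a)) = X.presheaf.map (homOfLE h1).op a := by
    rw [hv]; exact AModX.resR_resR _ _ a
  let g' : Γ(X, U ⊓ X.basicOpen a) :=
    OmegaSh.fnSect X _ ((Coh.structureModule X).presheaf.map (homOfLE (inf_le_left : U ⊓ X.basicOpen a ≤ U)).op g)
  refine ⟨(ClSub.idealMod K).presheaf.germ (U ⊓ X.basicOpen a) x ⟨hxU, hxa⟩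
    ((g' * (v⁻¹ : (Γ(X, U ⊓ X.basicOpen a))ˣ).1) • (ClSub.idealMod K).presheaf.map (homOfLE h1).op k), ?_⟩
  rw [stk_germ, Scheme.Modules.Hom.app_smul, QCoh.map_app_comm,
    ← (Coh.structureModule X).presheaf.germ_res_apply (homOfLE (inf_le_left : U ⊓ X.basicOpen a ≤ U)) x ⟨hxU, hxa⟩ g]
  refine congrArg _ ?_
  show (g' * (v⁻¹ : (Γ(X, U ⊓ X.basicOpen a))ˣ).1) * (X.presheaf.map (homOfLE h1).op (OmegaSh.idealSect K W k)) = g'
  rw [hk, ← hv', Units.inv_mul_cancel_right]

theorem notMem_basicOpen_idealModι {x : X} (hx : x ∈ K.support) (U : X.Opens) (hxU : x ∈ U)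
    (g : Γ(Coh.structureModule X, U))
    (hg : (Coh.structureModule X).presheaf.germ U x hxU g ∈ Set.range (LocFinCoprod.stk (ClSub.idealModι K) x)) :
    x ∉ X.basicOpen (OmegaSh.fnSect X U g) := by
  obtain ⟨z, hz⟩ := hg
  obtain ⟨V, hxV, a, rfl⟩ := TopCat.Presheaf.germ_exist (ClSub.idealMod K).presheaf z
  rw [stk_germ] at hz
  obtain ⟨W', hxW', i, j, hij⟩ := (Coh.structureModule X).presheaf.germ_eq x hxV hxU _ _ hz
  obtain ⟨W, hW, hxW, hWW'⟩ := exists_isAffineOpen_mem_and_subset hxW'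
  have hWV : W ≤ V := fun y hy => i.le (hWW' hy)
  have hWU : W ≤ U := fun y hy => j.le (hWW' hy)
  have e : OmegaSh.idealSect K W ((ClSub.idealMod K).presheaf.map (homOfLE hWV).op a) =
      X.presheaf.map (homOfLE hWU).op (OmegaSh.fnSect X U g) := by
    refine (congrArg (OmegaSh.fnSect X W) ((QCoh.map_app_comm (ClSub.idealModι K) (homOfLE hWV) a).trans ?_))
    have h2 := congrArg ((Coh.structureModule X).presheaf.map (homOfLE (show W ≤ W' from hWW')).op) hij
    exact ((AModX.res_res (M := Coh.structureModule X) i.le hWW' _).symm.trans h2).trans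
      (AModX.res_res (M := Coh.structureModule X) j.le hWW' g)
  have hmem := OmegaLib.idealSect_mem K ⟨W, hW⟩ ((ClSub.idealMod K).presheaf.map (homOfLE hWV).op a)
  rw [e] at hmem
  have h := (Scheme.mem_zeroLocus_iff _ _ _).1 ((K.mem_support_iff_of_mem (U := ⟨W, hW⟩) hxW).1 hx) _ hmem
  intro hu
  refine h ?_
  rw [Scheme.basicOpen_res]
  exact ⟨hxW, hu⟩

theorem good_of_comp {P : X.Modules} (ψ : P ⟶ ClSub.idealMod K)
    (hinj : ∀ x, Function.Injective (LocFinCoprod.stk ψ x))
    (hsurj : ∀ x, x ∉ K.support → Function.Surjective (LocFinCoprod.stk ψ x)) :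
    Good K (ψ ≫ ClSub.idealModι K) := by
  haveI : Mono (ClSub.idealModι K) := inferInstanceAs (Mono (kernel.ι (ClSub.toSubscheme K)))
  refine ⟨mono_of_stk_injective _ fun x a b h => ?_, fun x hx z => ?_, fun x hx U hxU g hg => ?_⟩
  · rw [stk_comp, stk_comp] at h
    exact hinj x (stk_injective_of_mono (ClSub.idealModι K) x h)
  · obtain ⟨y, rfl⟩ := stk_idealModι_surjective K hx z
    obtain ⟨y', rfl⟩ := hsurj x hx y
    exact ⟨y', stk_comp _ _ x y'⟩
  · obtain ⟨z, hz⟩ := hg
    exact notMem_basicOpen_idealModι K hx U hxU g ⟨_, (stk_comp _ _ x z).symm.trans hz⟩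

theorem exists_good_step (hM : PicF.IsInvertible (ClSub.idealMod K)) {P : X.Modules}
    (φ : P ⟶ Coh.structureModule X) (h : Good K φ) :
    ∃ φ' : (K0TensorInv.ten (ClSub.idealMod K)).obj P ⟶ Coh.structureModule X, Good K φ' := by
  obtain ⟨w⟩ := nonempty_leftUnit (ClSub.idealMod K)
  obtain ⟨hmono, hsurj, -⟩ := h
  refine ⟨((K0TensorInv.ten (ClSub.idealMod K)).map φ ≫ w.hom) ≫ ClSub.idealModι K, good_of_comp K _ ?_ ?_⟩
  · intro x a b h
    rw [stk_comp, stk_comp] at h
    have h' := (stk_bijective_of_iso w x).1 h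
    obtain ⟨t, ht⟩ := exists_isGen hM x
    obtain ⟨a', rfl⟩ := (K0TensorInv.sig_bijective (ClSub.idealMod K) P ht).2 a
    obtain ⟨b', rfl⟩ := (K0TensorInv.sig_bijective (ClSub.idealMod K) P ht).2 b
    rw [K0TensorInv.stk_sig, K0TensorInv.stk_sig] at h'
    exact congrArg _ (stk_injective_of_mono φ x ((K0TensorInv.sig_bijective (ClSub.idealMod K) _ ht).1 h'))
  · intro x hx z
    obtain ⟨y', rfl⟩ := (stk_bijective_of_iso w x).2 z
    obtain ⟨t, ht⟩ := exists_isGen hM x
    obtain ⟨y'', rfl⟩ := (K0TensorInv.sig_bijective (ClSub.idealMod K) _ ht).2 y'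
    obtain ⟨v, rfl⟩ := hsurj x hx y''
    refine ⟨K0TensorInv.sig (ClSub.idealMod K) P t v, ?_⟩
    rw [stk_comp, K0TensorInv.stk_sig]

theorem tensorPow_succ (M : X.Modules) (n : ℕ) :
    CohB1.tensorPow M (n + 1) = (K0TensorInv.ten M).obj (CohB1.tensorPow M n) := rfl

/-- A map from each positive power of an invertible ideal to the structure sheaf. -/
theorem exists_tower (hM : PicF.IsInvertible (ClSub.idealMod K)) :
    ∀ n : ℕ, ∃ φ : CohB1.tensorPow (ClSub.idealMod K) (n + 1) ⟶ Coh.structureModule X, Good K φ := by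
  intro n
  induction n with
  | zero =>
    obtain ⟨w⟩ := nonempty_leftUnit (ClSub.idealMod K)
    rw [tensorPow_succ]
    exact ⟨w.hom ≫ ClSub.idealModι K, good_of_comp K w.hom (fun x => (stk_bijective_of_iso w x).1)
      fun x _ => (stk_bijective_of_iso w x).2⟩
  | succ n ih =>
    obtain ⟨φ, h⟩ := ih
    rw [tensorPow_succ]
    exact exists_good_step K hM φ h

end Groth.Agent.ZeroConn12
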